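import Mathlib.RingTheory.WittVector.Teichmuller
import Mathlib.RingTheory.WittVector.Truncated
import Mathlib.Algebra.MvPolynomial.Basic

/-!
# Weighted homogeneity of the Witt vector structure polynomials
-/

universe u

open MvPolynomial

namespace Groth.Agent.WittFilLib

variable (p : ℕ) [hp : Fact p.Prime]

/-- `(x * [t])_j = x_j t^(p^j)` -/
theorem coeff_mul_teichmuller {R : Type u} [CommRing R] (x : WittVector p R) (t : R) (j : ℕ) :
    (x * WittVector.teichmuller p t).coeff j = x.coeff j * t ^ p ^ j := by
  have hQ : ∀ {Q : Type} [CommRing Q] [Invertible (p : Q)] (x : WittVector p Q) (t : Q),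
      x * WittVector.teichmuller p t = WittVector.mk p (fun i => x.coeff i * t ^ p ^ i) := by
    intro Q _ _ x t
    refine (WittVector.ghostEquiv p Q).injective ?_
    funext k
    show WittVector.ghostComponent k _ = WittVector.ghostComponent k _
    rw [map_mul, WittVector.ghostComponent_teichmuller, WittVector.ghostComponent_apply,
      WittVector.ghostComponent_apply, aeval_wittPolynomial, aeval_wittPolynomial, Finset.sum_mul]
    refine Finset.sum_congr rfl fun i hi => ?_
    rw [WittVector.coeff_mk, mul_pow, mul_assoc]
    congr 2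
    rw [← pow_mul, ← pow_add, Nat.add_sub_cancel' (Nat.lt_succ_iff.1 (Finset.mem_range.1 hi))]
  let P := MvPolynomial (Option ℕ) ℤ
  let X₀ : WittVector p P := WittVector.mk p fun i => X (some i)
  have key : X₀ * WittVector.teichmuller p (X none) = WittVector.mk p (fun i => X (some i) * X none ^ p ^ i) := by
    refine WittVector.map_injective (MvPolynomial.map (Int.castRingHom ℚ) : P →+* MvPolynomial (Option ℕ) ℚ)
      (MvPolynomial.map_injective _ Int.cast_injective) ?_
    have : Invertible (p : MvPolynomial (Option ℕ) ℚ) := by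
      have : Invertible (p : ℚ) := invertibleOfNonzero (Nat.cast_ne_zero.2 hp.out.ne_zero)
      exact (this.map (C : ℚ →+* MvPolynomial (Option ℕ) ℚ)).copy _ (map_natCast _ p).symm
    rw [map_mul, WittVector.map_teichmuller, hQ]
    ext i
    simp [WittVector.map_coeff, X₀]
  let θ : P →+* R := eval₂Hom (Int.castRingHom R) (fun o => match o with | some i => x.coeff i | none => t)
  have h2 := congrArg (fun z => (WittVector.map θ z).coeff j) key
  have hx : WittVector.map θ X₀ = x := by
    ext i
    simp only [WittVector.map_coeff, X₀, θ, WittVector.coeff_mk]; exact eval₂_X _ _ _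
  simp only [map_mul, WittVector.map_teichmuller, hx] at h2
  simp only [WittVector.map_coeff, θ, WittVector.coeff_mk, map_mul, map_pow] at h2
  rw [show ∀ o, eval₂Hom (Int.castRingHom R) (fun o => match o with | some i => x.coeff i | none => t) (X o : P) = (match o with | some i => x.coeff i | none => t) from fun o => eval₂_X _ _ _] at h2
  rw [show ∀ o, eval₂Hom (Int.castRingHom R) (fun o => match o with | some i => x.coeff i | none => t) (X o : P) = (match o with | some i => x.coeff i | none => t) from fun o => eval₂_X _ _ _] at h2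
  exact h2

/-- If scaling variables by `t ^ w` scales `φ` by `t ^ N`, all monomials have weight `N`. -/
theorem weight_eq_of_scaling {σ : Type} [DecidableEq σ] (φ : MvPolynomial σ ℤ) (w : σ → ℕ) (N : ℕ)
    (h : aeval (fun s => (Polynomial.C (X s : MvPolynomial σ ℤ)) * Polynomial.X ^ w s) φ =
      Polynomial.C φ * Polynomial.X ^ N) :
    ∀ d ∈ φ.support, (d.sum fun s e => w s * e) = N := by
  classical
  intro d hd
  by_contra hne
  have h1 : aeval (fun s => (Polynomial.C (X s : MvPolynomial σ ℤ)) * Polynomial.X ^ w s) φ =
      ∑ e ∈ φ.support, Polynomial.C (monomial e (φ.coeff e)) * Polynomial.X ^ (e.sum fun s k => w s * k) := by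
    conv_lhs => rw [φ.as_sum, map_sum]
    refine Finset.sum_congr rfl fun e _ => ?_
    rw [aeval_monomial]
    simp only [mul_pow, ← map_pow, ← pow_mul, Finsupp.prod, Finsupp.sum]
    rw [Finset.prod_mul_distrib, Finset.prod_pow_eq_pow_sum, ← map_prod, ← mul_assoc]
    congr 1
    rw [monomial_eq, map_mul, Finsupp.prod]
    congr 1
    all_goals simp
  have h2 := congrArg (fun f => Polynomial.coeff f (d.sum fun s k => w s * k)) (h1.symm.trans h)
  simp only [Polynomial.finsetSum_coeff, Polynomial.coeff_C_mul, Polynomial.coeff_X_pow, if_neg hne,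
    mul_zero] at h2
  have h3 := congrArg (coeff d) h2
  rw [coeff_sum, coeff_zero, Finset.sum_eq_single d] at h3
  · simp only [mul_ite, mul_one, mul_zero, if_true, coeff_monomial] at h3
    exact mem_support_iff.1 hd h3
  · intro e _ he
    simp only [mul_ite, mul_one, mul_zero]
    split_ifs
    · rw [coeff_monomial, if_neg he]
    · exact coeff_zero _
  · intro hd'; exact absurd hd hd'

section

/-- Scalable weights of the two blocks of variables. -/
def wt (a b : ℕ) : Fin 2 × ℕ → ℕ := fun s => (if s.1 = 0 then a else b) * p ^ s.2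

lemma scaling (op : ∀ {R : Type} [CommRing R], WittVector p R → WittVector p R → WittVector p R)
    (W : ℕ → MvPolynomial (Fin 2 × ℕ) ℤ)
    (hW : ∀ {R : Type} [CommRing R] (x y : WittVector p R) (j : ℕ),
      (op x y).coeff j = WittVector.peval (W j) ![x.coeff, y.coeff])
    (a b c : ℕ)
    (hop : ∀ {R : Type} [CommRing R] (x y : WittVector p R) (t : R),
      op (x * WittVector.teichmuller p (t ^ a)) (y * WittVector.teichmuller p (t ^ b)) =
        op x y * WittVector.teichmuller p (t ^ c))
    (j : ℕ) : ∀ d ∈ (W j).support, (d.sum fun s e => wt p a b s * e) = c * p ^ j := by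
  apply weight_eq_of_scaling
  let R := Polynomial (MvPolynomial (Fin 2 × ℕ) ℤ)
  let x : Fin 2 → WittVector p R := fun i => WittVector.mk p fun l => Polynomial.C (X (i, l))
  have h := congrArg (fun z => WittVector.coeff z j) (hop (x 0) (x 1) Polynomial.X)
  simp only [hW, coeff_mul_teichmuller, WittVector.peval] at h
  refine Eq.trans ?_ (h.trans ?_)
  · refine congrArg (fun f => aeval f (W j)) (funext fun s => ?_)
    obtain ⟨i, l⟩ := s
    fin_cases i <;> simp [wt, x, coeff_mul_teichmuller, pow_mul, -map_pow]
  · rw [← pow_mul]
    congr 1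
    refine Eq.trans ?_ (DFunLike.congr_fun (aeval_unique
      ((Polynomial.C : MvPolynomial (Fin 2 × ℕ) ℤ →+* R).toIntAlgHom)) (W j)).symm
    refine congrArg (fun f => aeval f (W j)) (funext fun s => ?_)
    obtain ⟨i, l⟩ := s
    fin_cases i <;> simp [x] <;> rfl

theorem wittSub_weight (j : ℕ) : ∀ d ∈ (WittVector.wittSub p j).support,
    (d.sum fun s e => wt p 1 1 s * e) = p ^ j := by
  have := scaling p (fun x y => x - y) (WittVector.wittSub p) (fun x y j => WittVector.sub_coeff x y j) 1 1 1
    (fun x y t => (sub_mul _ _ _).symm) j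
  simpa using this

theorem wittMul_weight_left (j : ℕ) : ∀ d ∈ (WittVector.wittMul p j).support,
    (d.sum fun s e => wt p 1 0 s * e) = p ^ j := by
  have := scaling p (fun x y => x * y) (WittVector.wittMul p) (fun x y j => WittVector.mul_coeff x y j) 1 0 1
    (fun x y t => by simp only [pow_zero, map_one, mul_one, pow_one]; ring) j
  simpa using this

theorem wittMul_weight_right (j : ℕ) : ∀ d ∈ (WittVector.wittMul p j).support,
    (d.sum fun s e => wt p 0 1 s * e) = p ^ j := by
  have := scaling p (fun x y => x * y) (WittVector.wittMul p) (fun x y j => WittVector.mul_coeff x y j) 0 1 1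
    (fun x y t => by simp only [pow_zero, map_one, mul_one, pow_one]; ring) j
  simpa using this

end

end Groth.Agent.WittFilLib
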