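import Mathlib
import Groth.Agent.WittFilLib.Homog

/-!
# Witt vectors of a weakly cyclic extension

Let `B` be spanned over `A` by elements `y` with `y ^ ℓ = c y ∈ A`, `ℓ` prime to `p`.  Witt vectors
over `B` decompose along the classes of exponents mod `ℓ`; a homogeneous component times the
Teichmüller representative of the product of the `c y` is a multiple of one Teichmüller vector by
a Witt vector over `A`.
-/

universe u

open WittVector

namespace Groth.Agent.WittFilLib.Kummer

variable {p : ℕ} [hp : Fact p.Prime] {A B : Type u} [CommRing A] [CommRing B] [Algebra A B]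
  {ι : Type u} [Fintype ι] {ℓ : ℕ}

/-- The span of the monomials in the class `χ`. -/
noncomputable def piece (y : ι → B) (χ : ι → ZMod ℓ) : Submodule A B :=
  Submodule.span A {b | ∃ e : ι → ℕ, (∀ i, ((e i : ℕ) : ZMod ℓ) = χ i) ∧ b = ∏ i, y i ^ e i}

lemma one_mem_piece (y : ι → B) : (1 : B) ∈ piece (A := A) (ℓ := ℓ) y 0 :=
  Submodule.subset_span ⟨0, by simp, by simp⟩

lemma mul_mem_piece (y : ι → B) {χ ψ : ι → ZMod ℓ} {a b : B} (ha : a ∈ piece (A := A) y χ)
    (hb : b ∈ piece (A := A) y ψ) : a * b ∈ piece (A := A) y (χ + ψ) := by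
  have hle : piece (A := A) y χ * piece (A := A) y ψ ≤ piece (A := A) y (χ + ψ) := by
    unfold piece
    rw [Submodule.span_mul_span, Submodule.span_le]
    rintro _ ⟨_, ⟨e, he, rfl⟩, _, ⟨f, hf, rfl⟩, rfl⟩
    exact Submodule.subset_span ⟨e + f, fun i => by simp [he i, hf i],
      by simp [pow_add, Finset.prod_mul_distrib]⟩
  exact hle (Submodule.mul_mem_mul ha hb)

lemma pow_mem_piece (y : ι → B) {χ : ι → ZMod ℓ} {a : B} (ha : a ∈ piece (A := A) y χ) (e : ℕ) :
    a ^ e ∈ piece (A := A) y (e • χ) := by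
  induction e with
  | zero => rw [zero_smul, pow_zero]; exact one_mem_piece y
  | succ e ih => rw [succ_nsmul, pow_succ]; exact mul_mem_piece y ih ha

lemma prod_mem_piece (y : ι → B) {σ : Type} (t : Finset σ) (χ : σ → ι → ZMod ℓ) (v : σ → B)
    (h : ∀ s ∈ t, v s ∈ piece (A := A) y (χ s)) : ∏ s ∈ t, v s ∈ piece (A := A) y (∑ s ∈ t, χ s) := by
  classical
  induction t using Finset.induction_on with
  | empty => simpa using one_mem_piece y
  | insert a t ha ih =>
    rw [Finset.sum_insert ha, Finset.prod_insert ha]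
    exact mul_mem_piece y (h a (Finset.mem_insert_self a t))
      (ih fun s hs => h s (Finset.mem_insert_of_mem hs))

/-- Homogeneous Witt vectors of class `χ`. -/
def IsHom (A : Type u) [CommRing A] [Algebra A B] (y : ι → B) (χ : ι → ZMod ℓ) (w : WittVector p B) : Prop :=
  ∀ k, w.coeff k ∈ piece (A := A) y (p ^ k • χ)

lemma isHom_zero (y : ι → B) (χ : ι → ZMod ℓ) : IsHom A y χ (0 : WittVector p B) := fun k => by
  rw [WittVector.zero_coeff]; exact zero_mem _

lemma isHom_sub (y : ι → B) (χ : ι → ZMod ℓ) {v w : WittVector p B} (hv : IsHom A y χ v)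
    (hw : IsHom A y χ w) : IsHom A y χ (v - w) := by
  intro k
  rw [WittVector.sub_coeff, WittVector.peval, (wittSub p k).as_sum, map_sum]
  refine Submodule.sum_mem _ fun d hd => ?_
  rw [MvPolynomial.aeval_monomial, ← Algebra.smul_def]
  refine zsmul_mem ?_ _
  have h := prod_mem_piece (A := A) y d.support (fun s => (wt p 1 1 s * d s) • χ)
    (fun s => Function.uncurry ![v.coeff, w.coeff] s ^ d s) (fun s _ => ?_)
  · rw [← Finset.sum_smul] at h
    rw [show ∑ s ∈ d.support, wt p 1 1 s * d s = p ^ k from wittSub_weight p k d hd] at h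
    exact h
  · rw [mul_comm, mul_smul]
    apply pow_mem_piece
    obtain ⟨i, l⟩ := s
    fin_cases i
    · simpa [wt] using hv l
    · simpa [wt] using hw l

lemma isHom_add (y : ι → B) (χ : ι → ZMod ℓ) {v w : WittVector p B} (hv : IsHom A y χ v)
    (hw : IsHom A y χ w) : IsHom A y χ (v + w) := by
  have := isHom_sub y χ hv (isHom_sub y χ (isHom_zero y χ) hw)
  rwa [zero_sub, sub_neg_eq_add] at this

lemma iterate_map_verschiebung {S : Type u} [CommRing S] (f : S →+* B) (x : WittVector p S) (i : ℕ) :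
    WittVector.map f ((⇑(verschiebung : WittVector p S →+ WittVector p S))^[i] x) =
      (⇑(verschiebung : WittVector p B →+ WittVector p B))^[i] (WittVector.map f x) := by
  induction i with
  | zero => rfl
  | succ i ih => rw [Function.iterate_succ_apply', Function.iterate_succ_apply', map_verschiebung, ih]

lemma iterate_verschiebung_sum {σ : Type*} (t : Finset σ) (g : σ → WittVector p B) (i : ℕ) :
    (⇑(verschiebung : WittVector p B →+ WittVector p B))^[i] (∑ s ∈ t, g s) =
      ∑ s ∈ t, (⇑(verschiebung : WittVector p B →+ WittVector p B))^[i] (g s) := by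
  induction i with
  | zero => rfl
  | succ i ih => simp only [Function.iterate_succ_apply', ih, map_sum]

lemma iterate_frobenius_teichmuller [CharP B p] (k : ℕ) (b : B) :
    (⇑(frobenius : WittVector p B →+* WittVector p B))^[k] (teichmuller p b) =
      teichmuller p (b ^ p ^ k) := by
  induction k with
  | zero => simp
  | succ k ih =>
    rw [Function.iterate_succ_apply', ih, frobenius_eq_map_frobenius, map_teichmuller, frobenius_def,
      ← pow_mul, ← pow_succ]

lemma isHom_iterate_verschiebung_teichmuller (y : ι → B) (χ : ι → ZMod ℓ) (i : ℕ) {b : B}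
    (hb : b ∈ piece (A := A) y (p ^ i • χ)) :
    IsHom A y χ ((⇑(verschiebung : WittVector p B →+ WittVector p B))^[i] (teichmuller p b)) := by
  intro k
  rcases lt_or_ge k i with h | h
  · rw [iterate_verschiebung_coeff_eq_zero _ h]; exact zero_mem _
  · obtain ⟨l, rfl⟩ := Nat.exists_eq_add_of_le h
    rw [add_comm, iterate_verschiebung_coeff]
    rcases l with _ | l
    · simpa [teichmuller_coeff_zero] using hb
    · rw [teichmuller_coeff_pos p b _ (Nat.succ_pos l)]; exact zero_mem _

variable [NeZero ℓ] [DecidableEq ι]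

/-- Every Witt vector is a sum of homogeneous ones. -/
theorem exists_decomposition (hℓ : Nat.Coprime p ℓ) (y : ι → B)
    (hspan : Submodule.span A (Set.range y) = ⊤) (η : WittVector p B) :
    ∃ w : (ι → ZMod ℓ) → WittVector p B, (∀ χ, IsHom A y χ (w χ)) ∧ ∑ χ, w χ = η := by
  classical
  have htop : ∀ b : B, b ∈ ⨆ χ : ι → ZMod ℓ, piece (A := A) y χ := by
    intro b
    have hb : b ∈ Submodule.span A (Set.range y) := hspan ▸ Submodule.mem_top
    refine Submodule.span_le.2 ?_ hb
    rintro _ ⟨i, rfl⟩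
    refine Submodule.mem_iSup_of_mem (fun j => ((if j = i then 1 else 0 : ℕ) : ZMod ℓ)) ?_
    exact Submodule.subset_span ⟨fun j => if j = i then 1 else 0, fun j => rfl, by simp⟩
  have hparts : ∀ b : B, ∃ f : (ι → ZMod ℓ) → B, (∀ χ, f χ ∈ piece (A := A) y χ) ∧ ∑ χ, f χ = b := by
    intro b
    obtain ⟨f, hf, hsum⟩ := (Submodule.mem_iSup_iff_exists_finsupp _ b).1 (htop b)
    exact ⟨f, hf, by rw [← hsum, Finsupp.sum_fintype _ _ (fun _ => rfl)]⟩
  choose f hf hfsum using hparts
  let W : ℕ → (ι → ZMod ℓ) → WittVector p B := fun i => Nat.rec (fun _ => 0) (fun i Wi χ =>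
    Wi χ + (⇑(verschiebung : WittVector p B →+ WittVector p B))^[i]
      (teichmuller p (f ((η - ∑ ψ, Wi ψ).coeff i) (p ^ i • χ)))) i
  have hW0 : ∀ χ, W 0 χ = 0 := fun _ => rfl
  have hWs : ∀ i χ, W (i + 1) χ = W i χ + (⇑(verschiebung : WittVector p B →+ WittVector p B))^[i]
      (teichmuller p (f ((η - ∑ ψ, W i ψ).coeff i) (p ^ i • χ))) := fun _ _ => rfl
  have hWhom : ∀ i χ, IsHom A y χ (W i χ) := by
    intro i χ
    induction i with
    | zero => rw [hW0]; exact isHom_zero y χ
    | succ i ih => rw [hWs]; exact isHom_add y χ ih (isHom_iterate_verschiebung_teichmuller y χ i (hf _ _))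
  have hbij : ∀ i, Function.Bijective fun χ : ι → ZMod ℓ => p ^ i • χ := by
    intro i
    refine Finite.injective_iff_bijective.1 fun χ ψ h => funext fun j => ?_
    have hu : IsUnit ((p ^ i : ℕ) : ZMod ℓ) := (ZMod.unitOfCoprime _ (hℓ.pow_left i)).isUnit
    exact hu.mul_left_cancel (by simpa [nsmul_eq_mul] using congrFun h j)
  have hrem : ∀ i, ∀ k < i, (η - ∑ χ, W i χ).coeff k = 0 := by
    intro i
    induction i with
    | zero => intro k hk; omega
    | succ i ih =>
      intro k hk
      have hpart : ∑ χ, f ((η - ∑ ψ, W i ψ).coeff i) (p ^ i • χ) = (η - ∑ ψ, W i ψ).coeff i := by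
        conv_rhs => rw [← hfsum ((η - ∑ ψ, W i ψ).coeff i)]
        exact Fintype.sum_bijective _ (hbij i) _ _ fun _ => rfl
      set R := η - ∑ ψ, W i ψ with hR
      have e : η - ∑ χ, W (i + 1) χ = (⇑(verschiebung : WittVector p B →+ WittVector p B))^[i]
          (R.shift i - ∑ χ, teichmuller p (f (R.coeff i) (p ^ i • χ))) := by
        rw [iterate_map_sub, iterate_verschiebung_sum, ← eq_iterate_verschiebung ih, hR]
        simp only [hWs, Finset.sum_add_distrib]
        abel
      rw [e]
      rcases (Nat.lt_succ_iff.1 hk).lt_or_eq with h | rfl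
      · exact iterate_verschiebung_coeff_eq_zero _ h
      · have hc := iterate_verschiebung_coeff (R.shift k - ∑ χ, teichmuller p (f (R.coeff k) (p ^ k • χ))) k 0
        rw [zero_add] at hc
        rw [hc]
        show constantCoeff (p := p) (R := B) (R.shift k - ∑ χ, teichmuller p (f (R.coeff k) (p ^ k • χ))) = 0
        rw [map_sub, map_sum]
        show (R.shift k).coeff 0 - ∑ χ, (teichmuller p (f (R.coeff k) (p ^ k • χ))).coeff 0 = 0
        simp only [shift_coeff, add_zero, teichmuller_coeff_zero]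
        rw [hpart, sub_self]
  have hstab : ∀ χ i j, i ≤ j → ∀ k < i, (W j χ).coeff k = (W i χ).coeff k := by
    intro χ i j hij
    induction j, hij using Nat.le_induction with
    | base => exact fun _ _ => rfl
    | succ j hj ih =>
      intro k hk
      rw [← ih k hk]
      refine le_coeff_eq_iff_le_sub_coeff_eq_zero.2 (fun l hl => ?_) k (lt_of_lt_of_le hk hj)
      rw [hWs, add_sub_cancel_left]
      exact iterate_verschiebung_coeff_eq_zero _ hl
  refine ⟨fun χ => WittVector.mk p fun k => (W (k + 1) χ).coeff k, fun χ k => ?_, ?_⟩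
  · rw [coeff_mk]; exact hWhom (k + 1) χ k
  · ext k
    have h1 : (∑ χ, WittVector.mk p fun l => (W (l + 1) χ).coeff l).truncate (k + 1) =
        (∑ χ, W (k + 1) χ).truncate (k + 1) := by
      rw [map_sum, map_sum]
      refine Finset.sum_congr rfl fun χ _ => TruncatedWittVector.ext fun l => ?_
      rw [coeff_truncate, coeff_truncate, coeff_mk]
      exact (hstab χ _ _ (Nat.succ_le_of_lt l.2) _ (Nat.lt_succ_self _)).symm
    have h2 := congrArg (fun t => TruncatedWittVector.coeff (⟨k, Nat.lt_succ_self k⟩ : Fin (k + 1)) t) h1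
    simp only [coeff_truncate] at h2
    rw [h2]
    exact ((le_coeff_eq_iff_le_sub_coeff_eq_zero).2 (hrem (k + 1)) k (Nat.lt_succ_self k)).symm

/-- The core: `[a] V^n η` lies in the ideal generated by the `V^n x`, `x` over `A`. -/
theorem teichmuller_mul_mem [CharP B p] (hℓ : Nat.Coprime p ℓ) (y : ι → B)
    (hspan : Submodule.span A (Set.range y) = ⊤) (c : ι → A)
    (hc : ∀ i, y i ^ ℓ = algebraMap A B (c i)) (C : ι → A) (hC : ∀ i, c i = C i ∨ y i = 0)
    (n : ℕ) (η : WittVector p B) :
    teichmuller p (algebraMap A B (∏ i, C i)) *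
        (⇑(verschiebung : WittVector p B →+ WittVector p B))^[n] η ∈
      Ideal.span (Set.range fun x : WittVector p A =>
        WittVector.map (algebraMap A B) ((⇑(verschiebung : WittVector p A →+ WittVector p A))^[n] x)) := by
  classical
  obtain ⟨w, hw, rfl⟩ := exists_decomposition hℓ y hspan η
  rw [iterate_verschiebung_sum, Finset.mul_sum]
  refine Ideal.sum_mem _ fun χ _ => ?_
  let u : ZMod ℓ := ((ZMod.unitOfCoprime _ (hℓ.pow_left n))⁻¹ : (ZMod ℓ)ˣ)
  let s : ι → ℕ := fun i => (u * χ i).val
  let z : B := ∏ i, y i ^ s i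
  have hs : ∀ i k, ((s i * p ^ (n + k) : ℕ) : ZMod ℓ) = (p ^ k • χ) i := by
    intro i k
    have hu : u * ((p ^ n : ℕ) : ZMod ℓ) = 1 := (ZMod.unitOfCoprime _ (hℓ.pow_left n)).inv_mul
    simp only [s, Nat.cast_mul, ZMod.natCast_zmod_val, pow_add, Pi.smul_apply, nsmul_eq_mul]
    linear_combination (χ i * ((p ^ k : ℕ) : ZMod ℓ)) * hu
  have key : ∀ k, ∃ α : A, algebraMap A B ((∏ i, C i) ^ p ^ (n + k)) * (w χ).coeff k =
      algebraMap A B α * z ^ p ^ (n + k) := by
    intro k
    suffices h : piece (A := A) y (p ^ k • χ) ≤ Submodule.comap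
        (LinearMap.lsmul A B ((∏ i, C i) ^ p ^ (n + k))) (Submodule.span A {z ^ p ^ (n + k)}) by
      obtain ⟨α, hα⟩ := Submodule.mem_span_singleton.1 (h (hw χ k))
      refine ⟨α, ?_⟩
      rw [← Algebra.smul_def, ← Algebra.smul_def]
      exact hα.symm
    refine Submodule.span_le.2 ?_
    rintro _ ⟨e, he, rfl⟩
    show ((∏ i, C i) ^ p ^ (n + k)) • ∏ i, y i ^ e i ∈ Submodule.span A {z ^ p ^ (n + k)}
    have hi : ∀ i, ∃ β : A, algebraMap A B (C i ^ p ^ (n + k)) * y i ^ e i =
        algebraMap A B β * y i ^ (s i * p ^ (n + k)) := by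
      intro i
      have hmod : e i ≡ s i * p ^ (n + k) [MOD ℓ] :=
        (ZMod.natCast_eq_natCast_iff _ _ _).1 ((he i).trans (hs i k).symm)
      have hlt : s i < ℓ := ZMod.val_lt _
      rcases le_or_gt (s i * p ^ (n + k)) (e i) with hle | hgt
      · obtain ⟨q, hq⟩ := (Nat.modEq_iff_dvd' hle).1 hmod.symm
        refine ⟨C i ^ p ^ (n + k) * c i ^ q, ?_⟩
        rw [show e i = ℓ * q + s i * p ^ (n + k) by omega, pow_add (y i), pow_mul (y i) ℓ, hc, map_mul,
          map_pow (algebraMap A B) (c i)]
        ring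
      · obtain ⟨q, hq⟩ := (Nat.modEq_iff_dvd' hgt.le).1 hmod
        have hqle : q ≤ p ^ (n + k) := by
          refine Nat.le_of_mul_le_mul_left ?_ (Nat.pos_of_ne_zero (NeZero.ne ℓ))
          calc ℓ * q = s i * p ^ (n + k) - e i := hq.symm
            _ ≤ s i * p ^ (n + k) := Nat.sub_le _ _
            _ ≤ ℓ * p ^ (n + k) := Nat.mul_le_mul_right _ hlt.le
        rcases hC i with hci | hyi
        · refine ⟨c i ^ (p ^ (n + k) - q), ?_⟩
          rw [← hci, show s i * p ^ (n + k) = ℓ * q + e i by omega, pow_add (y i), pow_mul (y i) ℓ, hc]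
          conv_lhs => rw [← Nat.sub_add_cancel hqle]
          rw [pow_add, map_mul, map_pow, map_pow]
          ring
        · have hpos : 0 < s i := by
            rcases Nat.eq_zero_or_pos (s i) with h0 | h0
            · rw [h0, zero_mul] at hgt; omega
            · exact h0
          rcases Nat.eq_zero_or_pos (e i) with h0 | h0
          · exfalso
            rw [h0, Nat.sub_zero] at hq
            have hd : ℓ ∣ s i * p ^ (n + k) := ⟨q, hq⟩
            have := Nat.Coprime.dvd_of_dvd_mul_right (hℓ.symm.pow_right _) hd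
            exact absurd (Nat.le_of_dvd hpos this) (not_le.2 hlt)
          · exact ⟨0, by rw [hyi, zero_pow h0.ne', mul_zero, map_zero, zero_mul]⟩
    choose β hβ using hi
    refine Submodule.mem_span_singleton.2 ⟨∏ i, β i, ?_⟩
    have h : ∏ i, (algebraMap A B (C i ^ p ^ (n + k)) * y i ^ e i) =
        ∏ i, (algebraMap A B (β i) * y i ^ (s i * p ^ (n + k))) := Finset.prod_congr rfl fun i _ => hβ i
    rw [Finset.prod_mul_distrib, Finset.prod_mul_distrib, ← map_prod, ← map_prod, Finset.prod_pow] at h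
    simp only [pow_mul, Finset.prod_pow] at h
    rw [Algebra.smul_def, Algebra.smul_def]
    exact h.symm
  choose α hα using key
  have e : w χ * teichmuller p (algebraMap A B (∏ i, C i) ^ p ^ n) =
      WittVector.map (algebraMap A B) (WittVector.mk p α) * teichmuller p (z ^ p ^ n) := by
    ext k
    rw [coeff_mul_teichmuller, coeff_mul_teichmuller, map_coeff, coeff_mk, ← pow_mul, ← pow_mul,
      ← pow_add, ← map_pow, mul_comm ((w χ).coeff k), hα k]
  rw [mul_comm, iterate_verschiebung_mul_left, iterate_frobenius_teichmuller, e,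
    ← iterate_frobenius_teichmuller, ← iterate_verschiebung_mul_left, ← iterate_map_verschiebung]
  exact Ideal.mul_mem_right _ _ (Ideal.subset_span ⟨WittVector.mk p α, rfl⟩)

end Groth.Agent.WittFilLib.Kummer
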