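import Groth.Prelude.Def_W4c6katofiltaWFil
import Groth.Agent.WittFilLib.Homog
import Mathlib.RingTheory.Localization.FractionRing
import Mathlib.RingTheory.IntegralClosure.IntegrallyClosed
import Mathlib.RingTheory.Localization.Away.Basic
import Mathlib.Algebra.CharP.Algebra
import Mathlib.RingTheory.Polynomial.RationalRoot

/-!
# Filtration pieces of truncated Witt vectors
-/

universe u

open MvPolynomial

namespace Groth.Agent.WittFilLib

variable (p : ℕ) [hp : Fact p.Prime] {A B : Type u} [CommRing A] [IsDomain A] [CommRing B] [Algebra A B]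

/-- Roots of elements of `A` in `B` lie in `A`. -/
def PowIn (A B : Type u) [CommRing A] [CommRing B] [Algebra A B] : Prop :=
  Function.Injective (algebraMap A B) ∧
    ∀ (y : B) (N : ℕ), 0 < N → y ^ N ∈ (algebraMap A B).range → y ∈ (algebraMap A B).range

theorem powIn_of_away [IsIntegrallyClosed A] (π : A) (hπ : π ≠ 0) [IsLocalization.Away π B] : PowIn A B := by
  have hle : Submonoid.powers π ≤ nonZeroDivisors A := powers_le_nonZeroDivisors_of_noZeroDivisors hπ
  let K := FractionRing A
  let ι : B →ₐ[A] K := IsLocalization.liftAlgHom (M := Submonoid.powers π) (f := Algebra.ofId A K)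
    (fun y => IsLocalization.map_units K (⟨y, hle y.2⟩ : nonZeroDivisors A))
  have hι : Function.Injective ι := by
    rw [IsLocalization.coe_liftAlgHom, IsLocalization.lift_injective_iff]
    intro x y
    exact ⟨fun h => congrArg _ (IsLocalization.injective B hle h),
      fun h => congrArg _ (IsFractionRing.injective A K h)⟩
  refine ⟨IsLocalization.injective B hle, fun y N hN ⟨a, ha⟩ => ?_⟩
  have h1 : IsIntegral A (ι y) := IsIntegral.of_pow hN (by
    rw [← map_pow, ← ha, AlgHom.commutes]; exact isIntegral_algebraMap)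
  obtain ⟨b, hb⟩ := IsIntegrallyClosed.isIntegral_iff.1 h1
  exact ⟨b, hι ((AlgHom.commutes ι b).trans hb)⟩

variable [CharP A p]

lemma int_pow_p {R : Type u} [CommRing R] [ExpChar R p] (k : ℕ) (m : ℤ) : (m : R) ^ p ^ k = (m : R) :=
  (iterateFrobenius_def p k (m : R)).symm.trans (map_intCast (iterateFrobenius R p k) m)

theorem exists_aeval {σ : Type} [DecidableEq σ] (hPI : PowIn A B) (φ : MvPolynomial σ ℤ) (y cs : σ → B) (c : B)
    (q w : σ → ℕ) (k j : ℕ) (α : σ → A)
    (hα : ∀ d ∈ φ.support, ∀ s ∈ d.support, algebraMap A B (α s) = y s ^ q s * cs s ∧ q s * w s = p ^ k * p ^ j)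
    (hc : ∀ d ∈ φ.support, (d.prod fun s e => cs s ^ (w s * e)) = c ^ p ^ j) :
    ∃ z : A, algebraMap A B z = aeval y φ ^ p ^ k * c ∧
      ∀ {S : Type u} [CommRing S] [CharP S p] (ρ : A →+* S), ρ z ^ p ^ j = aeval (fun s => ρ (α s) ^ w s) φ := by
  classical
  have : CharP B p := charP_of_injective_algebraMap hPI.1 p
  have : ExpChar A p := ExpChar.prime hp.out
  have : ExpChar B p := ExpChar.prime hp.out
  have hmono : ∀ d ∈ φ.support, (d.prod fun s e => y s ^ e) ^ p ^ k * c ∈ (algebraMap A B).range ∧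
      ((d.prod fun s e => y s ^ e) ^ p ^ k * c) ^ p ^ j = algebraMap A B (d.prod fun s e => α s ^ (w s * e)) := by
    intro d hd
    have h1 : ((d.prod fun s e => y s ^ e) ^ p ^ k * c) ^ p ^ j =
        algebraMap A B (d.prod fun s e => α s ^ (w s * e)) := by
      rw [mul_pow, ← hc d hd, ← pow_mul, map_finsuppProd, Finsupp.prod, Finsupp.prod, Finsupp.prod,
        ← Finset.prod_pow, ← Finset.prod_mul_distrib]
      refine Finset.prod_congr rfl fun s hs => ?_
      obtain ⟨ha, hq⟩ := hα d hd s hs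
      rw [map_pow, ha, mul_pow, ← pow_mul, ← pow_mul, ← hq]
      congr 2
      ring
    exact ⟨hPI.2 _ _ (pow_pos hp.out.pos j) ⟨_, h1.symm⟩, h1⟩
  choose! zd hzd using fun d hd => (hmono d hd).1
  refine ⟨∑ d ∈ φ.support, ((φ.coeff d : ℤ) : A) * zd d, ?_, ?_⟩
  · rw [map_sum]
    conv_rhs => rw [φ.as_sum, map_sum, sum_pow_char_pow, Finset.sum_mul]
    refine Finset.sum_congr rfl fun d hd => ?_
    rw [map_mul, map_intCast, hzd d hd, aeval_monomial, mul_pow, eq_intCast, int_pow_p p k, mul_assoc]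
  · intro S _ _ ρ
    have : ExpChar S p := ExpChar.prime hp.out
    rw [map_sum, sum_pow_char_pow]
    conv_rhs => rw [φ.as_sum, map_sum]
    refine Finset.sum_congr rfl fun d hd => ?_
    have h2 : zd d ^ p ^ j = d.prod fun s e => α s ^ (w s * e) := hPI.1 (by
      rw [map_pow, hzd d hd, (hmono d hd).2])
    rw [map_mul, map_intCast, mul_pow, int_pow_p p j, ← map_pow, h2, map_finsuppProd, aeval_monomial, eq_intCast]
    simp only [map_pow, ← pow_mul]

lemma snd_le_of_weight {a b j : ℕ} {d : (Fin 2 × ℕ) →₀ ℕ} (h : (d.sum fun s e => wt p a b s * e) = p ^ j)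
    {s : Fin 2 × ℕ} (hs : s ∈ d.support) (hab : 0 < (if s.1 = 0 then a else b)) : s.2 ≤ j := by
  have h1 : wt p a b s * d s ≤ p ^ j := h ▸ Finset.single_le_sum (fun x _ => Nat.zero_le (wt p a b x * d x)) hs
  have h2 : p ^ s.2 ≤ p ^ j := by
    refine le_trans ?_ h1
    refine le_trans ?_ (Nat.le_mul_of_pos_right _ (Nat.pos_of_ne_zero (Finsupp.mem_support_iff.1 hs)))
    exact Nat.le_mul_of_pos_left _ hab
  exact (Nat.pow_le_pow_iff_right hp.out.one_lt).1 h2

lemma q_mul_w {M l j : ℕ} (hl : l ≤ j) (hj : j ≤ M) : p ^ (M - l) * p ^ l = p ^ (M - j) * p ^ j := by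
  rw [← pow_add, ← pow_add]; congr 1; omega

variable {m : ℕ}

/-- Coordinates of a difference, as elements of `A` after normalisation. -/
theorem exists_sub_coeff (hPI : PowIn A B) (c : B) (x y : WittVector p B) (α β : ℕ → A) (j : ℕ) (hj : j < m)
    (hx : ∀ l ≤ j, algebraMap A B (α l) = x.coeff l ^ p ^ (m - 1 - l) * c)
    (hy : ∀ l ≤ j, algebraMap A B (β l) = y.coeff l ^ p ^ (m - 1 - l) * c) :
    ∃ z : A, algebraMap A B z = (x - y).coeff j ^ p ^ (m - 1 - j) * c ∧
      ∀ {S : Type u} [CommRing S] [CharP S p] (ρ : A →+* S), (∀ l ≤ j, ρ (α l) = ρ (β l)) → ρ z ^ p ^ j = 0 := by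
  classical
  have hs : ∀ d ∈ (WittVector.wittSub p j).support, ∀ s ∈ d.support, s.2 ≤ j := fun d hd s hs =>
    snd_le_of_weight p (wittSub_weight p j d hd) hs (by split_ifs <;> norm_num)
  obtain ⟨z, hz, hρ⟩ := exists_aeval p hPI (WittVector.wittSub p j) (Function.uncurry ![x.coeff, y.coeff])
    (fun _ => c) c (fun s => p ^ (m - 1 - s.2)) (fun s => p ^ s.2) (m - 1 - j) j
    (fun s => if s.1 = 0 then α s.2 else β s.2)
    (fun d hd s hs' => ⟨by
      obtain ⟨i, l⟩ := s
      fin_cases i <;> simp [hx l (hs d hd _ hs'), hy l (hs d hd _ hs')],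
      q_mul_w p (hs d hd s hs') (by omega)⟩)
    (fun d hd => by
      rw [Finsupp.prod, Finset.prod_pow_eq_pow_sum]
      congr 1
      have := wittSub_weight p j d hd
      simp only [wt, ite_self, one_mul] at this
      exact this)
  refine ⟨z, by rw [WittVector.sub_coeff]; exact hz, fun {S} _ _ ρ hρl => ?_⟩
  rw [hρ ρ]
  let w : WittVector p S := WittVector.mk p fun l => if l ≤ j then ρ (α l) ^ p ^ l else 0
  have h0 := congrArg (fun v => WittVector.coeff v j) (sub_self w)
  simp only [WittVector.sub_coeff, WittVector.zero_coeff, WittVector.peval] at h0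
  refine Eq.trans ?_ h0
  refine eval₂Hom_congr' rfl (fun s hs1 _ => ?_) rfl
  obtain ⟨d, hd, hsd⟩ := (MvPolynomial.mem_vars _).1 hs1
  obtain ⟨i, l⟩ := s
  have hl := hs d hd _ hsd
  fin_cases i <;> simp [w, hl, hρl l hl]

omit [IsDomain A] [CharP A p] in
lemma mem_fil_truncate_iff (c : B) (x : WittVector p B) :
    WittVector.truncate m x ∈ WittFil.fil p m (A := A) c ↔
      ∀ j < m, x.coeff j ^ p ^ (m - 1 - j) * c ∈ (algebraMap A B).range := by
  simp only [WittFil.fil, Set.mem_setOf_eq, WittVector.coeff_truncate, Fin.forall_iff]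

theorem sub_mem (hPI : PowIn A B) (c : B) {a b : TruncatedWittVector p m B}
    (ha : a ∈ WittFil.fil p m (A := A) c) (hb : b ∈ WittFil.fil p m (A := A) c) :
    a - b ∈ WittFil.fil p m (A := A) c := by
  classical
  obtain ⟨x, rfl⟩ := WittVector.truncate_surjective p m B a
  obtain ⟨y, rfl⟩ := WittVector.truncate_surjective p m B b
  rw [← map_sub, mem_fil_truncate_iff]
  rw [mem_fil_truncate_iff] at ha hb
  choose! α hα using ha
  choose! β hβ using hb
  intro j hj
  obtain ⟨z, hz, -⟩ := exists_sub_coeff p hPI c x y α β j hj (fun l hl => hα l (by omega)) (fun l hl => hβ l (by omega))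
  exact ⟨z, hz⟩

theorem mul_mem (hPI : PowIn A B) (c c' : B) {a b : TruncatedWittVector p m B}
    (ha : a ∈ WittFil.fil p m (A := A) c) (hb : b ∈ WittFil.fil p m (A := A) c') :
    a * b ∈ WittFil.fil p m (A := A) (c * c') := by
  classical
  obtain ⟨x, rfl⟩ := WittVector.truncate_surjective p m B a
  obtain ⟨y, rfl⟩ := WittVector.truncate_surjective p m B b
  rw [← map_mul, mem_fil_truncate_iff]
  rw [mem_fil_truncate_iff] at ha hb
  choose! α hα using ha
  choose! β hβ using hb
  intro j hj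
  have hs : ∀ d ∈ (WittVector.wittMul p j).support, ∀ s ∈ d.support, s.2 ≤ j := by
    intro d hd s hs
    rcases eq_or_ne s.1 0 with h | h
    · exact snd_le_of_weight p (wittMul_weight_left p j d hd) hs (by simp [h])
    · exact snd_le_of_weight p (wittMul_weight_right p j d hd) hs (by simp [h])
  obtain ⟨z, hz, -⟩ := exists_aeval p hPI (WittVector.wittMul p j) (Function.uncurry ![x.coeff, y.coeff])
    (fun s => if s.1 = 0 then c else c') (c * c') (fun s => p ^ (m - 1 - s.2)) (fun s => p ^ s.2) (m - 1 - j) j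
    (fun s => if s.1 = 0 then α s.2 else β s.2)
    (fun d hd s hs' => ⟨by
      obtain ⟨i, l⟩ := s
      have : l < m := lt_of_le_of_lt (hs d hd _ hs') hj
      fin_cases i <;> simp [hα l this, hβ l this],
      q_mul_w p (hs d hd s hs') (by omega)⟩)
    (fun d hd => by
      have h1 := wittMul_weight_left p j d hd
      have h2 := wittMul_weight_right p j d hd
      simp only [wt, Finsupp.sum] at h1 h2
      rw [mul_pow]
      conv_rhs => enter [1]; rw [← h1, ← Finset.prod_pow_eq_pow_sum]
      conv_rhs => enter [2]; rw [← h2, ← Finset.prod_pow_eq_pow_sum]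
      rw [← Finset.prod_mul_distrib, Finsupp.prod]
      refine Finset.prod_congr rfl fun s _ => ?_
      split_ifs <;> simp)
  exact ⟨z, by rw [WittVector.mul_coeff]; exact hz⟩

omit [IsDomain A] [CharP A p] in
theorem fil_teichmuller_image (m : ℕ) (u : Bˣ) (n l : ℤ) :
    WittFil.fil p m (A := A) ((u ^ (n - (p : ℤ) ^ (m - 1) * l) : Bˣ) : B) =
      (fun a => WittVector.truncate m (WittVector.teichmuller p ((u ^ l : Bˣ) : B)) * a) ''
        WittFil.fil p m (A := A) ((u ^ n : Bˣ) : B) := by
  have key : ∀ (x : WittVector p B) (e f : ℤ), ∀ j < m,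
      (x * WittVector.teichmuller p ((u ^ f : Bˣ) : B)).coeff j ^ p ^ (m - 1 - j) * ((u ^ e : Bˣ) : B) =
        x.coeff j ^ p ^ (m - 1 - j) * ((u ^ (e + (p : ℤ) ^ (m - 1) * f) : Bˣ) : B) := by
    intro x e f j hj
    rw [coeff_mul_teichmuller, mul_pow, ← pow_mul, ← pow_add, show j + (m - 1 - j) = m - 1 by omega, mul_assoc,
      ← Units.val_pow_eq_pow_val, ← Units.val_mul, ← zpow_natCast, ← zpow_mul, ← zpow_add]
    congr 3
    push_cast
    ring
  apply Set.Subset.antisymm
  · intro a ha
    obtain ⟨x, rfl⟩ := WittVector.truncate_surjective p m B a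
    refine ⟨WittVector.truncate m (x * WittVector.teichmuller p ((u ^ (-l) : Bˣ) : B)), ?_, ?_⟩
    · rw [mem_fil_truncate_iff] at ha ⊢
      intro j hj
      rw [key x n (-l) j hj, mul_neg, ← sub_eq_add_neg]
      exact ha j hj
    · show _ * _ = _
      rw [← map_mul, mul_left_comm, ← map_mul (WittVector.teichmuller p), ← Units.val_mul, ← zpow_add,
        add_neg_cancel, zpow_zero, Units.val_one, map_one, mul_one]
  · rintro _ ⟨a, ha, rfl⟩
    obtain ⟨x, rfl⟩ := WittVector.truncate_surjective p m B a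
    show _ * _ ∈ _
    rw [← map_mul, mul_comm (WittVector.teichmuller p _) x, mem_fil_truncate_iff]
    rw [mem_fil_truncate_iff] at ha
    intro j hj
    rw [key x _ l j hj, sub_add_cancel]
    exact ha j hj

end Groth.Agent.WittFilLib
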