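import Groth.Agent.WittFilLib.Fil
import Mathlib.RingTheory.UniqueFactorizationDomain.Basic

/-!
# Restriction on filtration pieces
-/

universe u

namespace Groth.Agent.WittFilLib

variable (p : ℕ) [hp : Fact p.Prime] {A B : Type u} [CommRing A] [IsDomain A] [CommRing B] [Algebra A B]
  {r : ℕ} (x : Fin r → A) (hx : ∀ i, Prime (x i)) (hxa : ∀ i j, Associated (x i) (x j) → i = j)

include hx hxa

omit hp in
lemma prod_dvd_of_forall (a : A) (h : ∀ i, x i ∣ a) (s : Finset (Fin r)) : (∏ i ∈ s, x i) ∣ a := by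
  classical
  induction s using Finset.induction_on with
  | empty => simp
  | insert i s his ih =>
    obtain ⟨t, rfl⟩ := ih
    have hni : ¬ x i ∣ ∏ j ∈ s, x j := by
      rw [(hx i).dvd_finsetProd_iff]
      rintro ⟨j, hj, hij⟩
      exact his ((hxa i j ((hx i).associated_of_dvd (hx j) hij)) ▸ hj)
    rw [Finset.prod_insert his, mul_comm]
    exact mul_dvd_mul_left _ (((hx i).dvd_or_dvd (h i)).resolve_left hni)

omit hp in
lemma step (hinj : Function.Injective (algebraMap A B)) (e : Fin r → ℕ) (he : ∀ i, e i < p)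
    (z : B) (h1 : z * algebraMap A B (∏ i, x i) ∈ (algebraMap A B).range)
    (h2 : z ^ p * algebraMap A B (∏ i, x i ^ e i) ∈ (algebraMap A B).range)
    (hunit : IsUnit (algebraMap A B (∏ i, x i))) : z ∈ (algebraMap A B).range := by
  classical
  obtain ⟨a, ha⟩ := h1
  obtain ⟨b, hb⟩ := h2
  have e1 : a ^ p * ∏ i, x i ^ e i = b * (∏ i, x i) ^ p := hinj (by
    rw [map_mul, map_pow, ha, map_mul, hb, map_pow]; ring)
  have hd : ∀ i, x i ∣ a := by
    intro i
    by_contra hn
    have h3 : x i ^ p ∣ a ^ p * ∏ j, x j ^ e j := by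
      rw [e1]
      exact dvd_mul_of_dvd_right (pow_dvd_pow_of_dvd (Finset.dvd_prod_of_mem _ (Finset.mem_univ i)) p) _
    have h4 := (hx i).pow_dvd_of_dvd_mul_left p (fun h => hn ((hx i).dvd_of_dvd_pow h)) h3
    rw [← Finset.mul_prod_erase _ _ (Finset.mem_univ i)] at h4
    have hni : ¬ x i ∣ ∏ j ∈ Finset.univ.erase i, x j ^ e j := by
      rw [(hx i).dvd_finsetProd_iff]
      rintro ⟨j, hj, hij⟩
      exact (Finset.mem_erase.1 hj).1 (hxa i j ((hx i).associated_of_dvd (hx j) ((hx i).dvd_of_dvd_pow hij))).symm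
    have h5 := (hx i).pow_dvd_of_dvd_mul_right p hni h4
    exact absurd ((pow_dvd_pow_iff (hx i).ne_zero (hx i).not_unit).1 h5) (not_le.2 (he i))
  obtain ⟨t, rfl⟩ := prod_dvd_of_forall x hx hxa a hd Finset.univ
  exact ⟨t, hunit.mul_right_cancel (by rw [← ha, map_mul, mul_comm])⟩

omit hp in
lemma root_mem [IsLocalization.Away (∏ i, x i) B] (e : Fin r → ℕ) (he : ∀ i, e i < p)
    (z : B) (h2 : z ^ p * algebraMap A B (∏ i, x i ^ e i) ∈ (algebraMap A B).range) :
    z ∈ (algebraMap A B).range := by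
  have hinj : Function.Injective (algebraMap A B) := IsLocalization.injective B
    (powers_le_nonZeroDivisors_of_noZeroDivisors (Finset.prod_ne_zero_iff.2 fun i _ => (hx i).ne_zero) :
      Submonoid.powers (∏ i, x i) ≤ _)
  have hunit : IsUnit (algebraMap A B (∏ i, x i)) :=
    IsLocalization.map_units B (⟨_, 1, pow_one _⟩ : Submonoid.powers (∏ i, x i))
  obtain ⟨⟨a, ⟨_, K, rfl⟩⟩, hK⟩ := IsLocalization.surj (Submonoid.powers (∏ i, x i)) z
  have key : ∀ K z, z * algebraMap A B ((∏ i, x i) ^ K) ∈ (algebraMap A B).range →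
      z ^ p * algebraMap A B (∏ i, x i ^ e i) ∈ (algebraMap A B).range → z ∈ (algebraMap A B).range := by
    intro K
    induction K with
    | zero => intro z h _; simpa using h
    | succ K ih =>
      intro z h h'
      refine ih z (step p x hx hxa hinj e he _ ?_ ?_ hunit) h'
      · rwa [pow_succ, map_mul, ← mul_assoc] at h
      · rw [mul_pow, ← map_pow, mul_right_comm]
        exact MulMemClass.mul_mem h' ⟨_, rfl⟩
  exact key K z ⟨a, hK.symm⟩ h2

theorem truncate_image [UniqueFactorizationMonoid A] [IsLocalization.Away (∏ i, x i) B] (u : Fin r → Bˣ)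
    (hu : ∀ i, (u i : B) = algebraMap A B (x i)) (n : Fin r → ℤ) (m : ℕ) :
    (TruncatedWittVector.truncate (Nat.le_succ m)) '' WittFil.fil p (m + 1) (A := A) (WittFil.zmon u n) =
      WittFil.fil p m (A := A) (WittFil.zmon u (fun i => n i / (p : ℤ))) := by
  classical
  let e : Fin r → ℕ := fun i => (n i % (p : ℤ)).toNat
  have hp0 : (p : ℤ) ≠ 0 := by exact_mod_cast hp.out.ne_zero
  have he : ∀ i, e i < p := fun i => by
    have := Int.emod_lt_of_pos (n i) (show (0 : ℤ) < p by exact_mod_cast hp.out.pos)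
    have := Int.emod_nonneg (n i) hp0
    show (n i % (p : ℤ)).toNat < p
    omega
  have hz : WittFil.zmon u n = WittFil.zmon u (fun i => n i / (p : ℤ)) ^ p * algebraMap A B (∏ i, x i ^ e i) := by
    simp only [WittFil.zmon, Units.coe_prod, map_prod, ← Finset.prod_pow, ← Finset.prod_mul_distrib]
    refine Finset.prod_congr rfl fun i _ => ?_
    rw [map_pow, ← hu, ← Units.val_pow_eq_pow_val, ← Units.val_pow_eq_pow_val, ← Units.val_mul, ← zpow_natCast,
      ← zpow_natCast, ← zpow_mul, ← zpow_add]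
    congr 2
    show n i = n i / (p : ℤ) * p + ((n i % (p : ℤ)).toNat : ℤ)
    rw [Int.toNat_of_nonneg (Int.emod_nonneg _ hp0), mul_comm]
    exact (Int.mul_ediv_add_emod (n i) (p : ℤ)).symm
  have key : ∀ y : B, ∀ j < m, y ^ p ^ (m + 1 - 1 - j) * WittFil.zmon u n ∈ (algebraMap A B).range ↔
      y ^ p ^ (m - 1 - j) * WittFil.zmon u (fun i => n i / (p : ℤ)) ∈ (algebraMap A B).range := by
    intro y j hj
    have hexp : y ^ p ^ (m + 1 - 1 - j) * WittFil.zmon u n =
        (y ^ p ^ (m - 1 - j) * WittFil.zmon u (fun i => n i / (p : ℤ))) ^ p * algebraMap A B (∏ i, x i ^ e i) := by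
      rw [hz, mul_pow, ← pow_mul, ← pow_succ, show m - 1 - j + 1 = m + 1 - 1 - j by omega]; ring
    rw [hexp]
    exact ⟨root_mem p x hx hxa e he _, fun h => MulMemClass.mul_mem (pow_mem h p) ⟨_, rfl⟩⟩
  apply Set.Subset.antisymm
  · rintro _ ⟨a, ha, rfl⟩ j
    rw [TruncatedWittVector.coeff_truncate]
    exact (key _ j j.2).1 (ha (Fin.castLE (Nat.le_succ m) j))
  · intro b hb
    obtain ⟨v, rfl⟩ := WittVector.truncate_surjective p m B b
    let w : WittVector p B := WittVector.mk p fun j => if j < m then v.coeff j else 0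
    refine ⟨WittVector.truncate (m + 1) w, ?_, ?_⟩
    · rw [mem_fil_truncate_iff]
      rw [mem_fil_truncate_iff] at hb
      intro j hj
      rcases lt_or_ge j m with h | h
      · rw [show w.coeff j = v.coeff j from if_pos h]
        exact (key _ j h).2 (hb j h)
      · rw [show w.coeff j = 0 from if_neg (by omega), zero_pow (pow_ne_zero _ hp.out.ne_zero), zero_mul]
        exact zero_mem _
    · ext j
      rw [TruncatedWittVector.coeff_truncate, WittVector.coeff_truncate, WittVector.coeff_truncate]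
      exact if_pos j.2

end Groth.Agent.WittFilLib
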