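import Groth.Agent.WittFilLib.Fil
import Mathlib.RingTheory.PowerSeries.Order
import Mathlib.RingTheory.PowerSeries.Inverse
import Mathlib.RingTheory.WittVector.Identities

/-!
# Graded pieces of the Witt vector filtration
-/

universe u

namespace Groth.Agent.WittFilLib

variable (p : ℕ) [hp : Fact p.Prime]

theorem powIn_of_away_prime {A B : Type u} [CommRing A] [IsDomain A] [CommRing B] [Algebra A B] (π : A)
    (hπ : Prime π) [IsLocalization.Away π B] : PowIn A B := by
  classical
  have hinj : Function.Injective (algebraMap A B) :=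
    IsLocalization.injective B (powers_le_nonZeroDivisors_of_noZeroDivisors hπ.ne_zero : Submonoid.powers π ≤ _)
  refine ⟨hinj, fun y N hN ⟨b, hb⟩ => ?_⟩
  obtain ⟨⟨a, ⟨_, k, rfl⟩⟩, hk⟩ := IsLocalization.surj (Submonoid.powers π) y
  simp only at hk
  have hex : ∃ k, y * algebraMap A B (π ^ k) ∈ (algebraMap A B).range := ⟨k, a, hk.symm⟩
  obtain ⟨a₀, ha₀⟩ := Nat.find_spec hex
  rcases Nat.eq_zero_or_pos (Nat.find hex) with h0 | hpos
  · exact ⟨a₀, by rw [ha₀, h0, pow_zero, map_one, mul_one]⟩
  exfalso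
  have hdvd : π ∣ a₀ := by
    refine hπ.dvd_of_dvd_pow (n := N) ⟨b * π ^ (Nat.find hex * N - 1), hinj ?_⟩
    have hpos' : 0 < Nat.find hex * N := Nat.mul_pos hpos hN
    rw [map_pow, ha₀, mul_pow, ← hb, ← map_pow, ← map_mul, mul_left_comm, ← pow_succ', ← pow_mul,
      show Nat.find hex * N - 1 + 1 = Nat.find hex * N by omega]
  obtain ⟨a₁, rfl⟩ := hdvd
  refine Nat.find_min hex (m := Nat.find hex - 1) (by omega) ⟨a₁, ?_⟩
  have hu : IsUnit (algebraMap A B π) := IsLocalization.map_units B (⟨π, 1, pow_one π⟩ : Submonoid.powers π)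
  refine hu.mul_left_cancel ?_
  rw [← map_mul, ha₀, mul_left_comm, ← map_mul, ← pow_succ', show Nat.find hex - 1 + 1 = Nat.find hex by omega]

section

open PowerSeries

variable {S B : Type u} [CommRing S] [IsDomain S] [CharP S p] [CommRing B] [Algebra (PowerSeries S) B]
  [Algebra S B] [IsScalarTower S (PowerSeries S) B] [IsLocalization.Away (PowerSeries.X : PowerSeries S) B]
  (u : Bˣ) (hu : (u : B) = algebraMap (PowerSeries S) B PowerSeries.X) (m s : ℕ) (i : ℤ)

omit [IsDomain S] [CharP S p] [Algebra (PowerSeries S) B] [IsScalarTower S (PowerSeries S) B]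
  [IsLocalization.Away (PowerSeries.X : PowerSeries S) B] in
lemma coeff_shift (c : WittVector p S) (v : B) (j : ℕ) :
    ((WittVector.verschiebung)^[s] (WittVector.map (algebraMap S B) c * WittVector.teichmuller p v)).coeff j =
      if j < s then 0 else algebraMap S B (c.coeff (j - s)) * v ^ p ^ (j - s) := by
  split_ifs with h
  · exact WittVector.iterate_verschiebung_coeff_eq_zero _ h
  · obtain ⟨k, rfl⟩ := Nat.exists_eq_add_of_le (not_lt.1 h)
    rw [add_comm s k, WittVector.iterate_verschiebung_coeff, Nat.add_sub_cancel, coeff_mul_teichmuller,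
      WittVector.map_coeff]

omit [CharP S p] hp [IsDomain S] [Algebra (PowerSeries S) B] [Algebra S B]
  [IsScalarTower S (PowerSeries S) B] [IsLocalization.Away (PowerSeries.X : PowerSeries S) B] in
lemma unit_pow_pow (f : ℤ) (a b : ℕ) : (((u ^ f : Bˣ) : B) ^ p ^ a) ^ p ^ b = ((u ^ ((p : ℤ) ^ (a + b) * f) : Bˣ) : B) := by
  rw [← pow_mul, ← pow_add, ← Units.val_pow_eq_pow_val, ← zpow_natCast, ← zpow_mul, mul_comm f]
  push_cast
  rfl

/-- The normalised coordinates of `vShiftTeich`. -/
noncomputable def shiftCoord (c : WittVector p S) (j : ℕ) : PowerSeries S :=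
  if j < s then 0 else C (c.coeff (j - s) ^ p ^ (m - 1 - j))

omit [CharP S p] [IsLocalization.Away (PowerSeries.X : PowerSeries S) B] in
lemma algebraMap_shiftCoord (c : WittVector p S) {j : ℕ} (hj : j < m) :
    algebraMap (PowerSeries S) B (shiftCoord p m s c j) =
      ((WittVector.verschiebung)^[s] (WittVector.map (algebraMap S B) c *
        WittVector.teichmuller p ((u ^ i : Bˣ) : B))).coeff j ^ p ^ (m - 1 - j) *
        ((u ^ (-((p : ℤ) ^ (m - 1 - s) * i)) : Bˣ) : B) := by
  rw [coeff_shift, shiftCoord]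
  split_ifs with h
  · rw [map_zero, zero_pow (pow_ne_zero _ hp.out.ne_zero), zero_mul]
  · rw [mul_pow, unit_pow_pow, mul_assoc, ← Units.val_mul, ← zpow_add, show j - s + (m - 1 - j) = m - 1 - s by omega,
      add_neg_cancel, zpow_zero, Units.val_one, mul_one, IsScalarTower.algebraMap_apply S (PowerSeries S) B, ← map_pow,
      ← map_pow]
    rfl

include hu

omit [CharP S p] hp in
lemma mem_shift_one (z : B) (n : ℤ) (α : PowerSeries S)
    (hα : algebraMap (PowerSeries S) B α = z * ((u ^ n : Bˣ) : B)) :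
    z * ((u ^ (n - 1) : Bˣ) : B) ∈ (algebraMap (PowerSeries S) B).range ↔ constantCoeff α = 0 := by
  have h1 : algebraMap (PowerSeries S) B α = z * ((u ^ (n - 1) : Bˣ) : B) * algebraMap (PowerSeries S) B X := by
    rw [hα, ← hu, mul_assoc, ← Units.val_mul, ← zpow_add_one, sub_add_cancel]
  have hinj : Function.Injective (algebraMap (PowerSeries S) B) := IsLocalization.injective B
    (powers_le_nonZeroDivisors_of_noZeroDivisors PowerSeries.X_ne_zero : Submonoid.powers (X : PowerSeries S) ≤ _)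
  rw [← X_dvd_iff]
  constructor
  · rintro ⟨b, hb⟩
    exact ⟨b, hinj (by rw [h1, ← hb, map_mul, mul_comm])⟩
  · rintro ⟨b, rfl⟩
    refine ⟨b, u.isUnit.mul_right_cancel ?_⟩
    rw [hu, ← h1, map_mul, mul_comm]

omit [CharP S p] in
lemma constantCoeff_eq_zero_of_lt {j : ℕ} (hjs : j < s) (hs : s < m) (hi : ¬ (p : ℤ) ∣ i) (y : B) (α : PowerSeries S)
    (hα : algebraMap (PowerSeries S) B α = y ^ p ^ (m - 1 - j) * ((u ^ (-((p : ℤ) ^ (m - 1 - s) * i)) : Bˣ) : B)) :
    constantCoeff α = 0 := by
  have hinj : Function.Injective (algebraMap (PowerSeries S) B) := IsLocalization.injective B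
    (powers_le_nonZeroDivisors_of_noZeroDivisors PowerSeries.X_ne_zero : Submonoid.powers (X : PowerSeries S) ≤ _)
  by_contra hne
  obtain ⟨⟨a, ⟨_, K, rfl⟩⟩, hK⟩ := IsLocalization.surj (Submonoid.powers (X : PowerSeries S)) y
  simp only at hK
  rw [map_pow, ← hu] at hK
  set q := p ^ (m - 1 - j) with hq
  have e1 : algebraMap (PowerSeries S) B (a ^ q) =
      algebraMap (PowerSeries S) B α * ((u ^ (((K * q : ℕ) : ℤ) + (p : ℤ) ^ (m - 1 - s) * i) : Bˣ) : B) := by
    rw [hα, map_pow, ← hK, mul_pow, mul_assoc (y ^ q), ← Units.val_mul, ← zpow_add, neg_add_cancel_comm_assoc,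
      zpow_natCast, Units.val_pow_eq_pow_val, pow_mul]
  rcases le_or_gt 0 (((K * q : ℕ) : ℤ) + (p : ℤ) ^ (m - 1 - s) * i) with hN | hN
  · obtain ⟨N, hNe⟩ := Int.eq_ofNat_of_zero_le hN
    rw [hNe, zpow_natCast, Units.val_pow_eq_pow_val, hu, ← map_pow, ← map_mul] at e1
    have e2 := congrArg order (hinj e1)
    have hα0 : order α = 0 := by
      by_contra h
      exact hne (by simpa using coeff_of_lt_order (φ := α) 0 (pos_iff_ne_zero.2 h))
    rw [order_pow, order_mul, order_X_pow, hα0, zero_add, nsmul_eq_mul] at e2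
    obtain ⟨l, hl⟩ : ∃ l : ℕ, order a = l := by
      cases h : order a with
      | top => rw [h, ENat.mul_top (by simp [hq, hp.out.ne_zero])] at e2; exact absurd e2.symm (ENat.coe_ne_top N)
      | coe l => exact ⟨l, rfl⟩
    rw [hl, ← Nat.cast_mul, Nat.cast_inj] at e2
    apply hi
    have e3 : (q : ℤ) = (p : ℤ) ^ (m - 1 - s) * (p : ℤ) ^ (s - j) := by
      rw [hq, ← pow_add, show m - 1 - s + (s - j) = m - 1 - j by omega]; push_cast; rfl
    have e4 : (p : ℤ) ^ (m - 1 - s) * i = (q : ℤ) * ((l : ℤ) - K) := by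
      have h5 : ((q : ℤ) * l) = N := by exact_mod_cast e2
      push_cast at hNe
      linear_combination hNe - h5
    rw [e3, mul_assoc] at e4
    have e5 := mul_left_cancel₀ (pow_ne_zero _ (Nat.cast_ne_zero.2 hp.out.ne_zero)) e4
    rw [e5, show s - j = s - j - 1 + 1 by omega, pow_succ', mul_assoc]
    exact dvd_mul_right _ _
  · obtain ⟨N, hNe⟩ := Int.eq_ofNat_of_zero_le (le_of_lt (neg_pos.2 hN))
    have e2 : algebraMap (PowerSeries S) B (a ^ q * X ^ N) = algebraMap (PowerSeries S) B α := by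
      rw [map_mul, e1, mul_assoc, map_pow, ← hu, ← Units.val_pow_eq_pow_val, ← zpow_natCast, ← Units.val_mul,
        ← zpow_add, ← hNe, add_neg_cancel, zpow_zero, Units.val_one, mul_one]
    have hN0 : N ≠ 0 := by omega
    apply hne
    rw [← hinj e2, map_mul, map_pow constantCoeff X, constantCoeff_X, zero_pow hN0, mul_zero]

theorem graded (hs : s < m) (hsi : s = 0 ∨ ¬ ((p : ℤ) ∣ i)) :
    (∀ c : WittVector p S,
        WittFil.vShiftTeich p m s ((u ^ i : Bˣ) : B) c ∈
          WittFil.fil p m (A := PowerSeries S) ((u ^ (-((p : ℤ) ^ (m - 1 - s) * i)) : Bˣ) : B)) ∧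
      (∀ c : WittVector p S,
        WittFil.vShiftTeich p m s ((u ^ i : Bˣ) : B) c ∈
            WittFil.fil p m (A := PowerSeries S) ((u ^ (-((p : ℤ) ^ (m - 1 - s) * i) - 1) : Bˣ) : B) ↔
          WittVector.truncate (m - s) c = 0) ∧
      (∀ y ∈ WittFil.fil p m (A := PowerSeries S) ((u ^ (-((p : ℤ) ^ (m - 1 - s) * i)) : Bˣ) : B),
        ∃ c : WittVector p S,
          y - WittFil.vShiftTeich p m s ((u ^ i : Bˣ) : B) c ∈
            WittFil.fil p m (A := PowerSeries S)
              ((u ^ (-((p : ℤ) ^ (m - 1 - s) * i) - 1) : Bˣ) : B)) := by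
  classical
  have : CharP (PowerSeries S) p := charP_of_injective_ringHom (f := (C : S →+* PowerSeries S)) C_injective p
  have hPI : PowIn (PowerSeries S) B := powIn_of_away_prime X X_prime
  refine ⟨fun c => ?_, fun c => ?_, fun y hy => ?_⟩
  · rw [WittFil.vShiftTeich, mem_fil_truncate_iff]
    exact fun j hj => ⟨_, algebraMap_shiftCoord p u m s i c hj⟩
  · rw [WittFil.vShiftTeich, mem_fil_truncate_iff, ← RingHom.mem_ker, WittVector.mem_ker_truncate]
    constructor
    · intro h k hk
      have h1 := (mem_shift_one u hu _ _ _ (algebraMap_shiftCoord p u m s i c (show k + s < m by omega))).1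
        (h (k + s) (by omega))
      rw [shiftCoord, if_neg (by omega), constantCoeff_C, Nat.add_sub_cancel] at h1
      exact eq_zero_of_pow_eq_zero h1
    · intro h j hj
      refine (mem_shift_one u hu _ _ _ (algebraMap_shiftCoord p u m s i c hj)).2 ?_
      rw [shiftCoord]
      split_ifs with hjs
      · exact map_zero _
      · rw [constantCoeff_C, h (j - s) (by omega), zero_pow (pow_ne_zero _ hp.out.ne_zero)]
  · obtain ⟨x, rfl⟩ := WittVector.truncate_surjective p m B y
    rw [mem_fil_truncate_iff] at hy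
    choose! α hα using hy
    have hg : ∀ k, k + s < m → ∃ g : PowerSeries S,
        algebraMap (PowerSeries S) B g = x.coeff (k + s) * ((u ^ (-i) : Bˣ) : B) ^ p ^ k := fun k hk => by
      refine hPI.2 _ _ (pow_pos hp.out.pos (m - 1 - (k + s))) ⟨α (k + s), ?_⟩
      rw [hα (k + s) hk, mul_pow, unit_pow_pow, show k + (m - 1 - (k + s)) = m - 1 - s by omega, mul_neg]
    choose! g hg' using hg
    let c : WittVector p S := WittVector.mk p fun k => constantCoeff (g k)
    refine ⟨c, ?_⟩
    rw [WittFil.vShiftTeich, ← map_sub, mem_fil_truncate_iff]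
    intro j hj
    obtain ⟨z, hz, hρ⟩ := exists_sub_coeff p hPI ((u ^ (-((p : ℤ) ^ (m - 1 - s) * i)) : Bˣ) : B) x
      ((WittVector.verschiebung)^[s] (WittVector.map (algebraMap S B) c * WittVector.teichmuller p ((u ^ i : Bˣ) : B)))
      α (shiftCoord p m s c) j hj (fun l hl => hα l (by omega))
      (fun l hl => algebraMap_shiftCoord p u m s i c (by omega))
    refine (mem_shift_one u hu _ _ _ hz).2 (eq_zero_of_pow_eq_zero (hρ constantCoeff fun l hl => ?_))
    rw [shiftCoord]
    split_ifs with hls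
    · rw [map_zero]
      exact constantCoeff_eq_zero_of_lt p u hu m s i hls hs (hsi.resolve_left (by omega)) _ _ (hα l (by omega))
    · obtain ⟨k, rfl⟩ := Nat.exists_eq_add_of_le (not_lt.1 hls)
      have hαg : α (s + k) = g k ^ p ^ (m - 1 - (s + k)) := hPI.1 (by
        rw [map_pow, hg' k (by omega), hα (s + k) (by omega), mul_pow, unit_pow_pow, add_comm k s,
          show k + (m - 1 - (s + k)) = m - 1 - s by omega, mul_neg])
      rw [hαg, map_pow, constantCoeff_C, Nat.add_sub_cancel_left]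
      rfl

end

end Groth.Agent.WittFilLib
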